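import Mathlib
import Cfsg.Agent.Helper66.Sz8P1

set_option autoImplicit false

/-!
# Relators that hold a priori in every stem extension

Let `σ : Γ →* G` have central kernel of order prime to `n`.  If `f g`, `f h` are elements of `Γ` with
`(f g) ^ n = 1`, `(f h) ^ n = 1`, then a relator `c * g ^ s * c⁻¹ * h ^ t` that holds modulo the kernel of `σ`
holds in `Γ` (both `c g ^ s c⁻¹` and `h ^ (-t)` are the unique lift of order dividing `n` of their image).
-/

namespace Cfsg.Agent.Helper96.Cover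

variable {Gen : Type*}

/-- a letter or its inverse -/
def lett (g : Gen) (i : Bool) : FreeGroup Gen := if i then (FreeGroup.of g)⁻¹ else FreeGroup.of g

/-- the relator `c * g ^ s * c⁻¹ * h ^ t`, where `g`, `h` are letters or inverse letters -/
def p1rel (c : FreeGroup Gen) (g : Gen) (gi : Bool) (s : ℕ) (h : Gen) (hi : Bool) (t : ℕ) :
    FreeGroup Gen :=
  c * lett g gi ^ s * c⁻¹ * lett h hi ^ t

theorem lift_lett_pow {Γ : Type*} [Group Γ] (f : Gen → Γ) (g : Gen) (i : Bool) (n : ℕ)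
    (hg : f g ^ n = 1) : FreeGroup.lift f (lett g i) ^ n = 1 := by
  unfold lett
  cases i
  · simpa using hg
  · simp only [if_true, map_inv, FreeGroup.lift_apply_of, inv_pow, hg, inv_one]

theorem lift_p1rel {Γ G : Type*} [Group Γ] [Group G] [Finite Γ] (σ : Γ →* G)
    (hc : σ.ker ≤ Subgroup.center Γ) (n : ℕ) (hn : (Nat.card σ.ker).Coprime n) (f : Gen → Γ)
    (c : FreeGroup Gen) (g : Gen) (gi : Bool) (s : ℕ) (h : Gen) (hi : Bool) (t : ℕ)
    (hg : f g ^ n = 1) (hh : f h ^ n = 1)
    (hk : σ (FreeGroup.lift f (p1rel c g gi s h hi t)) = 1) :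
    FreeGroup.lift f (p1rel c g gi s h hi t) = 1 := by
  unfold p1rel at hk ⊢
  simp only [map_mul, map_inv, map_pow] at hk ⊢
  set C := FreeGroup.lift f c
  set a := FreeGroup.lift f (lett g gi) with ha
  set b := FreeGroup.lift f (lett h hi) with hb
  have ha' : a ^ n = 1 := lift_lett_pow f g gi n hg
  have hb' : b ^ n = 1 := lift_lett_pow f h hi n hh
  have h1 : (C * a ^ s * C⁻¹) ^ n = 1 := by
    rw [conj_pow, ← pow_mul, mul_comm, pow_mul, ha', one_pow, mul_one, mul_inv_cancel]
  have h2 : ((b ^ t)⁻¹) ^ n = 1 := by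
    rw [inv_pow, ← pow_mul, mul_comm, pow_mul, hb', one_pow, inv_one]
  have h3 : σ (C * a ^ s * C⁻¹) = σ ((b ^ t)⁻¹) := by
    have : σ (C * a ^ s * C⁻¹) * σ (b ^ t) = 1 := by
      simpa only [map_mul, map_inv, map_pow] using hk
    rw [map_inv]
    exact eq_inv_of_mul_eq_one_left this
  have := Cfsg.Agent.Helper66.Sz8.eq_of_pow_eq_one_of_map_eq σ hc n hn _ _ h1 h2 h3
  rw [this, inv_mul_cancel]

end Cfsg.Agent.Helper96.Cover
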